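import Cfsg.Agent.ReeQuad.NoQuaternion
import Cfsg.Agent.ReeDegree.Bound

/-!
An irreducible faithful action of a group without quaternion sections, on an elementary abelian
`p`-group with `p` odd, has no nontrivial quadratic elements.
-/

set_option autoImplicit false
set_option linter.unusedSectionVars false
set_option linter.style.haveILetI false

namespace CfsgLib.ReeQuad

open Subgroup
open scoped MatrixGroups IsMulCommutative commutatorElement

/-- The 2-subgroups of a small Ree group. -/
theorem squareComm_twisted {K : Type*} [Field K] [Fintype K] {m : ℕ}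
    (hK : Fintype.card K = 3 ^ (2 * m + 1)) :
    SquareComm ↥(Cfsg.Lie.twistedG2 K (3 ^ m)) := by
  haveI : CharP K 3 := charP_of_card_eq_prime_pow (p := 3) (f := 2 * m + 1) hK
  intro P hP x hx y _ hx2 _
  obtain ⟨S, hS⟩ := hP.exists_le_sylow
  exact absurd ((ReeG2Sylow.sylow_two hK (ReeDegree.hasForm hK) (ReeDegree.card_eq hK) S).2 x (hS hx))
    hx2

variable {G : Type*} [Group G] [Finite G] {p : ℕ} [Fact p.Prime]

theorem le_centralizer_of_quadratic (hp : p ≠ 2) {V H A : Subgroup G}
    (hV : Cfsg.IsElementaryAbelian p V) (hHV : H ≤ normalizer (V : Set G))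
    (hirr : ∀ U : Subgroup G, U ≤ V → H ≤ normalizer (U : Set G) → U = ⊥ ∨ U = V)
    [hn : ((centralizer (V : Set G)).subgroupOf H).Normal]
    (hQ : SquareComm (↥H ⧸ (centralizer (V : Set G)).subgroupOf H))
    (hA : A ≤ H) (hquad : ⁅⁅V, A⁆, A⁆ = ⊥) : A ≤ centralizer (V : Set G) := by
  classical
  haveI := hV.1
  intro a ha
  by_contra hac
  set C := (centralizer (V : Set G)).subgroupOf H with hC
  let ρ : ↥H ⧸ C →* AddMonoid.End (Additive V) :=
    QuotientGroup.lift C ((PLocal.normEnd V).comp (inclusion hHV)) fun h hh =>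
      MonoidHom.mem_ker.2 ((PLocal.normEnd_eq_one_iff V).2 hh)
  have hρ : ∀ x, ρ x = 1 → x = 1 := by
    intro x hx
    obtain ⟨h, rfl⟩ := QuotientGroup.mk_surjective x
    exact (QuotientGroup.eq_one_iff h).2
      ((PLocal.normEnd_eq_one_iff V (g := inclusion hHV h)).1 hx)
  set x : ↥H ⧸ C := QuotientGroup.mk (⟨a, hA ha⟩ : H) with hx
  have hqa : ⁅⁅V, Subgroup.zpowers a⁆, Subgroup.zpowers a⁆ = ⊥ :=
    eq_bot_iff.2 (hquad ▸ commutator_mono (commutator_mono le_rfl (zpowers_le.2 ha))
      (zpowers_le.2 ha))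
  have hxq : (ρ x - 1) * (ρ x - 1) = 0 :=
    PLocal.normEnd_sub_one_sq V (g := inclusion hHV ⟨a, hA ha⟩) hqa
  by_cases hall : ∀ g : ↥H ⧸ C, IsPGroup p ↥(Subgroup.closure ({x, g * x * g⁻¹} : Set (↥H ⧸ C)))
  · obtain ⟨N, hN, hNp, hxN⟩ := Small.baerSuzuki_elem (p := p) x hall
    set M : Subgroup G := (N.comap (QuotientGroup.mk' C)).map H.subtype with hM
    have hMH : H ≤ normalizer (M : Set G) := by
      intro h hh
      rw [mem_normalizer_iff_map_conj_eq, hM, Subgroup.map_map]
      have hnorm := hN.comap (QuotientGroup.mk' C)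
      have e : ((MulAut.conj h : G ≃* G) : G →* G).comp H.subtype =
          H.subtype.comp ((MulAut.conj (⟨h, hh⟩ : H) : H ≃* H) : H →* H) := by ext z; rfl
      rw [e, ← Subgroup.map_map, mem_normalizer_iff_map_conj_eq.1
        (show (⟨h, hh⟩ : H) ∈ normalizer ((N.comap (QuotientGroup.mk' C)) : Set H) by
          rw [normalizer_eq_top]; exact mem_top _)]
    have hU : H ≤ normalizer ((V ⊓ centralizer (M : Set G) : Subgroup G) : Set G) := by
      intro h hh
      refine mem_normalizer_iff.2 fun z => ?_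
      have hz : z ∈ V ↔ h * z * h⁻¹ ∈ V := mem_normalizer_iff.1 (hHV hh) z
      have hm : ∀ u : G, u ∈ M ↔ h * u * h⁻¹ ∈ M := mem_normalizer_iff.1 (hMH hh)
      simp only [mem_inf, mem_centralizer_iff, SetLike.mem_coe]
      constructor
      · rintro ⟨h1, h2⟩
        refine ⟨hz.1 h1, fun u hu => ?_⟩
        have hu' : h⁻¹ * u * h ∈ M := (hm _).2 (by simpa [mul_assoc] using hu)
        have := h2 _ hu'
        calc u * (h * z * h⁻¹) = h * ((h⁻¹ * u * h) * z) * h⁻¹ := by group
          _ = h * (z * (h⁻¹ * u * h)) * h⁻¹ := by rw [this]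
          _ = h * z * h⁻¹ * u := by group
      · rintro ⟨h1, h2⟩
        refine ⟨hz.2 h1, fun u hu => ?_⟩
        have := h2 _ ((hm u).1 hu)
        calc u * z = h⁻¹ * ((h * u * h⁻¹) * (h * z * h⁻¹)) * h := by group
          _ = h⁻¹ * ((h * z * h⁻¹) * (h * u * h⁻¹)) * h := by rw [this]
          _ = z * u := by group
    rcases hirr _ inf_le_left hU with h0 | hVeq
    · letI act : MulAction N (Additive V) :=
        { smul := fun n v => ρ n v
          one_smul := fun v => by
            show ρ ((1 : N) : ↥H ⧸ C) v = v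
            rw [OneMemClass.coe_one, map_one]; rfl
          mul_smul := fun n k v => by
            show ρ ((n * k : N) : ↥H ⧸ C) v = ρ n (ρ k v)
            rw [Subgroup.coe_mul, map_mul]; rfl }
      have hVp : IsPGroup p V := fun v => ⟨1, by
        rw [pow_one]; exact Subtype.ext (by simpa using hV.2 _ v.2)⟩
      have hVne : V ≠ ⊥ := fun h => hac (mem_centralizer_iff.2 fun v hv => by
        have : v = 1 := mem_bot.1 (h ▸ hv)
        simp [this])
      haveI : Nontrivial V := (nontrivial_iff_ne_bot V).2 hVne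
      have hdvd : p ∣ Nat.card (Additive V) := by
        rw [show Nat.card (Additive V) = Nat.card V from Nat.card_congr Additive.toMul]
        exact hVp.card_eq_or_dvd.resolve_left Finite.one_lt_card.ne'
      obtain ⟨v, hv, hv0⟩ := hNp.exists_fixed_point_of_prime_dvd_card_of_fixed_point (Additive V) hdvd
        (a := 0) (fun n => map_zero (ρ n))
      have hvU : ((v.toMul : V) : G) ∈ V ⊓ centralizer (M : Set G) := by
        refine mem_inf.2 ⟨v.toMul.2, mem_centralizer_iff.2 ?_⟩
        rintro _ ⟨u, hu, rfl⟩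
        have h1 : ρ (QuotientGroup.mk u) v = v := hv ⟨_, hu⟩
        have h2 : (u : G) * (v.toMul : G) * (u : G)⁻¹ = (v.toMul : G) :=
          congrArg (fun w : Additive V => ((w.toMul : V) : G)) h1
        exact mul_inv_eq_iff_eq_mul.1 h2
      rw [h0, mem_bot] at hvU
      exact hv0 (Additive.toMul.injective (Subtype.ext hvU)).symm
    · refine hac (mem_centralizer_iff.2 fun v hv => ?_)
      have hv' : v ∈ centralizer (M : Set G) := (mem_inf.1 (hVeq.symm ▸ hv)).2
      exact (mem_centralizer_iff.1 hv' a ⟨⟨a, hA ha⟩, hxN, rfl⟩).symm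
  · simp only [not_forall] at hall
    obtain ⟨g, hg⟩ := hall
    set y := g * x * g⁻¹ with hy
    set X := Subgroup.closure ({x, y} : Set (↥H ⧸ C)) with hX
    let x' : X := ⟨x, subset_closure (Or.inl rfl)⟩
    let y' : X := ⟨y, subset_closure (Or.inr rfl)⟩
    have hgen : Subgroup.closure ({x', y'} : Set X) = ⊤ := by
      apply map_injective X.subtype_injective
      rw [MonoidHom.map_closure, ← MonoidHom.range_eq_map, range_subtype]
      simp [hX, x', y', Set.image_insert_eq, Set.image_singleton]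
    have hyq : (ρ y - 1) * (ρ y - 1) = 0 := by
      have h1 : ρ g⁻¹ * ρ g = 1 := by rw [← map_mul, inv_mul_cancel, map_one]
      have h2 : ρ y - 1 = ρ g * (ρ x - 1) * ρ g⁻¹ := by
        rw [hy, map_mul, map_mul, mul_sub, sub_mul, mul_one, ← map_mul ρ g g⁻¹, mul_inv_cancel,
          map_one]
      rw [h2, show ρ g * (ρ x - 1) * ρ g⁻¹ * (ρ g * (ρ x - 1) * ρ g⁻¹) =
        ρ g * ((ρ x - 1) * (ρ g⁻¹ * ρ g) * (ρ x - 1)) * ρ g⁻¹ by simp only [mul_assoc],
        h1, mul_one, hxq, mul_zero, zero_mul]
    have hexp : ∀ v : Additive V, p • v = 0 := fun v => Additive.toMul.injective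
      (show v.toMul ^ p = 1 from Subtype.ext (by simpa using hV.2 _ v.toMul.2))
    obtain ⟨φ, -, hta, htb, hnc⟩ := PLocal.exists_hom_of_quadratic_pair hexp (ρ.comp X.subtype) hgen
      (a := x') (b := y') hxq hyq (by
        by_contra hcon
        simp only [not_exists, not_forall, not_not] at hcon
        refine hg fun z => ?_
        obtain ⟨k, hk⟩ := hcon z
        exact ⟨k, Subtype.ext (hρ _ hk)⟩)
    haveI : CharP (AlgebraicClosure (ZMod p)) p :=
      charP_of_injective_algebraMap (algebraMap (ZMod p) _).injective p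
    haveI : Finite φ.range := Finite.of_surjective φ.rangeRestrict φ.rangeRestrict_surjective
    obtain ⟨f, hf, hfr⟩ := PLocal.SL2.exists_sl2_zmod_hom hp φ.range ⟨x', rfl⟩ ⟨y', rfl⟩ hta htb hnc
    let K₀ : Subgroup X := f.range.comap φ
    let θ : K₀ →* f.range := (φ.comp K₀.subtype).codRestrict f.range fun z => z.2
    have hθ : Function.Surjective θ := by
      rintro ⟨z, hz⟩
      obtain ⟨w, rfl⟩ := hfr hz
      exact ⟨⟨w, hz⟩, rfl⟩
    let ι := (K₀.equivMapOfInjective X.subtype X.subtype_injective).symm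
    exact not_hasSL2Section hQ hp X ⟨K₀.map X.subtype, map_subtype_le _,
      ((MonoidHom.ofInjective hf).symm.toMonoidHom.comp θ).comp ι.toMonoidHom,
      ((MonoidHom.ofInjective hf).symm.surjective.comp hθ).comp ι.surjective⟩

end CfsgLib.ReeQuad
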