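import Cfsg.Agent.SL2Trace.Basic
import Cfsg.Agent.PLocal.PStability
import Cfsg.Agent.Inv53.PSLTwoAbelian

/-!
`PSL(2, q)`, `q` odd, has no quaternion section: in a 2-subgroup the elements that are no involutions
commute. A finite group with this property has no section `SL(2, p)`, `p` odd, so no nontrivial
quadratic element in a faithful action in characteristic `p` without a nontrivial normal `p`-subgroup.
-/

set_option autoImplicit false
set_option linter.unusedSectionVars false
set_option linter.style.haveILetI false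

namespace CfsgLib.ReeQuad

open Matrix
open scoped MatrixGroups

/-- In every 2-subgroup the elements with nontrivial square commute. -/
def SquareComm (Q : Type*) [Group Q] : Prop :=
  ∀ P : Subgroup Q, IsPGroup 2 P → ∀ x ∈ P, ∀ y ∈ P, x * x ≠ 1 → y * y ≠ 1 → x * y = y * x

theorem SquareComm.of_mulEquiv {Q R : Type*} [Group Q] [Group R] (e : Q ≃* R) (h : SquareComm R) :
    SquareComm Q := by
  intro P hP x hx y hy hx2 hy2
  apply e.injective
  rw [map_mul, map_mul]
  exact h (P.map e.toMonoidHom) (hP.map e.toMonoidHom) _ ⟨x, hx, rfl⟩ _ ⟨y, hy, rfl⟩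
    (fun h1 => hx2 (e.injective (by rw [map_mul, map_one]; exact h1)))
    (fun h1 => hy2 (e.injective (by rw [map_mul, map_one]; exact h1)))

section Field

variable {F : Type*} [Field F]

local notation "SLT" => Matrix.SpecialLinearGroup (Fin 2) F

/-- The entries. -/
def ent (g : SLT) (i j : Fin 2) : F := g.1 i j

theorem det_entries (g : SLT) : ent g 0 0 * ent g 1 1 - ent g 0 1 * ent g 1 0 = 1 := by
  have h := g.2
  rw [Matrix.det_fin_two] at h
  exact h

theorem entries (g h : SLT) : ent (g * h) 0 0 = ent g 0 0 * ent h 0 0 + ent g 0 1 * ent h 1 0 ∧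
    ent (g * h) 0 1 = ent g 0 0 * ent h 0 1 + ent g 0 1 * ent h 1 1 ∧
    ent (g * h) 1 0 = ent g 1 0 * ent h 0 0 + ent g 1 1 * ent h 1 0 ∧
    ent (g * h) 1 1 = ent g 1 0 * ent h 0 1 + ent g 1 1 * ent h 1 1 := by
  simp [ent, Matrix.mul_apply, Fin.sum_univ_two]

theorem neg_entries (g : SLT) (i j : Fin 2) : ent (-g) i j = -ent g i j := by
  simp [ent]

theorem one_entries : ent (1 : SLT) 0 0 = 1 ∧ ent (1 : SLT) 0 1 = 0 ∧ ent (1 : SLT) 1 0 = 0 ∧
    ent (1 : SLT) 1 1 = 1 := by simp [ent]

theorem ext_entries {g h : SLT} (h00 : ent g 0 0 = ent h 0 0) (h01 : ent g 0 1 = ent h 0 1)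
    (h10 : ent g 1 0 = ent h 1 0) (h11 : ent g 1 1 = ent h 1 1) : g = h := by
  apply Subtype.ext
  apply Matrix.ext
  intro i j
  fin_cases i <;> fin_cases j <;> assumption

variable (h2 : (2 : F) ≠ 0)
include h2

theorem eq_of_sq_eq_one {g : SLT} (hg : g * g = 1) : g = 1 ∨ g = -1 := by
  obtain ⟨a00, a01, a10, a11⟩ := entries g g
  obtain ⟨o00, o01, o10, o11⟩ := one_entries (F := F)
  rw [hg, o00] at a00; rw [hg, o01] at a01; rw [hg, o10] at a10; rw [hg, o11] at a11
  have hd := det_entries g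
  generalize hp0 : ent g 0 0 = p at *
  have hu : p * (p + ent g 1 1) = 2 := by linear_combination -a00 + hd
  have hne : p + ent g 1 1 ≠ 0 := fun h => h2 (by rw [← hu, h, mul_zero])
  have hp : p ≠ 0 := fun h => h2 (by rw [← hu, h, zero_mul])
  have hr : ent g 0 1 = 0 := (mul_eq_zero.1 (show ent g 0 1 * (p + ent g 1 1) = 0 by
    linear_combination -a01)).resolve_right hne
  have hs : ent g 1 0 = 0 := (mul_eq_zero.1 (show ent g 1 0 * (p + ent g 1 1) = 0 by
    linear_combination -a10)).resolve_right hne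
  rw [hr, hs] at a00 hd
  have hpp : p * p = 1 := by linear_combination -a00
  have hu1 : ent g 1 1 = p := mul_left_cancel₀ hp (by linear_combination hd - hpp)
  rcases mul_self_eq_one_iff.1 hpp with h | h
  · refine Or.inl (ext_entries ?_ ?_ ?_ ?_)
    · rw [o00]; linear_combination h + hp0
    · rw [o01]; exact hr
    · rw [o10]; exact hs
    · rw [o11]; linear_combination hu1 + h
  · refine Or.inr (ext_entries ?_ ?_ ?_ ?_) <;> rw [neg_entries]
    · rw [o00]; linear_combination h + hp0
    · rw [o01, neg_zero]; exact hr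
    · rw [o10, neg_zero]; exact hs
    · rw [o11]; linear_combination hu1 + h

/-- A square root of `-1` has trace zero. -/
theorem diag_of_sq {i : SLT} (hi : i * i = -1) : ent i 1 1 = -ent i 0 0 := by
  obtain ⟨a00, a01, a10, a11⟩ := entries i i
  obtain ⟨o00, o01, o10, o11⟩ := one_entries (F := F)
  rw [hi, neg_entries, o00] at a00; rw [hi, neg_entries, o01, neg_zero] at a01
  rw [hi, neg_entries, o10, neg_zero] at a10; rw [hi, neg_entries, o11] at a11
  have hd := det_entries i
  have h : (ent i 0 0 + ent i 1 1) * (ent i 0 0 + ent i 1 1) = 0 := by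
    linear_combination -a00 - a11 + (2 : F) * hd
  linear_combination mul_self_eq_zero.1 h

/-- An element anticommuting with a square root of `-1` squares to `-1`. -/
theorem sq_of_anticomm {i g : SLT} (hi : i * i = -1) (hg : g * i = -(i * g)) : g * g = -1 := by
  have hd := det_entries g
  have hdi := det_entries i
  have hti := diag_of_sq h2 hi
  obtain ⟨a00, a01, a10, a11⟩ := entries g i
  obtain ⟨b00, b01, b10, b11⟩ := entries i g
  rw [hg, neg_entries, b00] at a00; rw [hg, neg_entries, b01] at a01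
  rw [hg, neg_entries, b10] at a10; rw [hg, neg_entries, b11] at a11
  rw [hti] at a01 a10 a11 hdi
  have ha : ent i 0 0 * (ent g 0 0 + ent g 1 1) = 0 :=
    (mul_eq_zero.1 (show (2 : F) * (ent i 0 0 * (ent g 0 0 + ent g 1 1)) = 0 by
      linear_combination a11 - a00)).resolve_left h2
  have hb : ent i 0 1 * (ent g 0 0 + ent g 1 1) = 0 := by linear_combination -a01
  have hc : ent i 1 0 * (ent g 0 0 + ent g 1 1) = 0 := by linear_combination -a10
  have hT : ent g 1 1 = -ent g 0 0 := by
    by_contra hne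
    have hne' : ent g 0 0 + ent g 1 1 ≠ 0 := fun h => hne (by linear_combination h)
    rw [(mul_eq_zero.1 ha).resolve_right hne', (mul_eq_zero.1 hb).resolve_right hne',
      (mul_eq_zero.1 hc).resolve_right hne'] at hdi
    simp at hdi
  obtain ⟨c00, c01, c10, c11⟩ := entries g g
  obtain ⟨o00, o01, o10, o11⟩ := one_entries (F := F)
  rw [hT] at hd c01 c10 c11
  apply ext_entries <;> rw [neg_entries]
  · rw [c00, o00]; linear_combination -hd
  · rw [c01, o01]; ring
  · rw [c10, o10]; ring
  · rw [c11, o11]; linear_combination -hd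

/-- The centraliser of a square root of `-1` is commutative. -/
theorem comm_of_comm {i x y : SLT} (hi : i * i = -1) (hx : x * i = i * x) (hy : y * i = i * y) :
    x * y = y * x := by
  have hdi := det_entries i
  have hti := diag_of_sq h2 hi
  have key : ∀ g : SLT, g * i = i * g →
      ent g 0 1 * ent i 1 0 = ent i 0 1 * ent g 1 0 ∧
      ent i 0 1 * (ent g 0 0 - ent g 1 1) = 2 * ent i 0 0 * ent g 0 1 ∧
      ent i 1 0 * (ent g 0 0 - ent g 1 1) = 2 * ent i 0 0 * ent g 1 0 := by
    intro g hg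
    obtain ⟨a00, a01, a10, a11⟩ := entries g i
    obtain ⟨b00, b01, b10, b11⟩ := entries i g
    rw [hg, b00] at a00; rw [hg, b01] at a01; rw [hg, b10] at a10
    rw [hti] at a01 a10
    exact ⟨by linear_combination -a00, by linear_combination -a01, by linear_combination a10⟩
  obtain ⟨x1, x2, x3⟩ := key x hx
  obtain ⟨y1, y2, y3⟩ := key y hy
  obtain ⟨a00, a01, a10, a11⟩ := entries x y
  obtain ⟨b00, b01, b10, b11⟩ := entries y x
  have hz : ent x 0 1 * ent y 1 0 = ent y 0 1 * ent x 1 0 ∧
      ent x 0 1 * (ent y 0 0 - ent y 1 1) = ent y 0 1 * (ent x 0 0 - ent x 1 1) ∧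
      ent x 1 0 * (ent y 0 0 - ent y 1 1) = ent y 1 0 * (ent x 0 0 - ent x 1 1) := by
    by_cases hb : ent i 0 1 = 0
    · by_cases hc : ent i 1 0 = 0
      · have ha : 2 * ent i 0 0 ≠ 0 := by
          refine mul_ne_zero h2 fun h => ?_
          rw [hti, hb, h] at hdi
          simp at hdi
        rw [hb, zero_mul] at x2 y2
        rw [hc, zero_mul] at x3 y3
        have e1 := (mul_eq_zero.1 x2.symm).resolve_left ha
        have e2 := (mul_eq_zero.1 y2.symm).resolve_left ha
        have e3 := (mul_eq_zero.1 x3.symm).resolve_left ha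
        have e4 := (mul_eq_zero.1 y3.symm).resolve_left ha
        rw [e1, e2, e3, e4]
        simp
      · have hz1 : ent x 0 1 * ent y 1 0 = ent y 0 1 * ent x 1 0 := mul_left_cancel₀ hc
          (by linear_combination ent y 1 0 * x1 - ent x 1 0 * y1)
        refine ⟨hz1, mul_left_cancel₀ hc ?_, mul_left_cancel₀ hc ?_⟩
        · linear_combination ent x 0 1 * y3 - ent y 0 1 * x3 + (2 * ent i 0 0) * hz1
        · linear_combination ent x 1 0 * y3 - ent y 1 0 * x3
    · have hz1 : ent x 0 1 * ent y 1 0 = ent y 0 1 * ent x 1 0 := mul_left_cancel₀ hb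
        (by linear_combination -ent x 0 1 * y1 + ent y 0 1 * x1)
      refine ⟨hz1, mul_left_cancel₀ hb ?_, mul_left_cancel₀ hb ?_⟩
      · linear_combination ent x 0 1 * y2 - ent y 0 1 * x2
      · linear_combination ent x 1 0 * y2 - ent y 1 0 * x2 - (2 * ent i 0 0) * hz1
  obtain ⟨z1, z2, z3⟩ := hz
  apply ext_entries
  · rw [a00, b00]; linear_combination z1
  · rw [a01, b01]; linear_combination -z2
  · rw [a10, b10]; linear_combination z3
  · rw [a11, b11]; linear_combination -z1

end Field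

/-- The 2-subgroups of `PSL(2, q)`, `q` odd. -/
theorem squareComm_psl {F : Type*} [Field F] [Fintype F] (hF : Odd (Fintype.card F)) :
    SquareComm (Matrix.ProjectiveSpecialLinearGroup (Fin 2) F) := by
  intro P hP x hx y hy hx2 hy2
  haveI : Fact (Nat.Prime 2) := ⟨Nat.prime_two⟩
  have h2 : (2 : F) ≠ 0 := Linear.two_ne_zero_of_odd hF
  haveI : Nontrivial P := ⟨⟨⟨x, hx⟩, 1, fun h => hx2 (by rw [show x = 1 from congrArg Subtype.val h, one_mul])⟩⟩
  haveI := hP.center_nontrivial
  obtain ⟨z, hz⟩ := exists_prime_orderOf_dvd_card' (G := Subgroup.center P) 2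
    (((hP.to_subgroup _).card_eq_or_dvd).resolve_left (Finite.one_lt_card (α := Subgroup.center P)).ne')
  have hz2 : (z : P) * z = 1 := by
    have := pow_orderOf_eq_one z
    rw [hz, pow_two] at this
    exact congrArg Subtype.val this
  have hz1 : ((z : P) : Matrix.ProjectiveSpecialLinearGroup (Fin 2) F) ≠ 1 := fun h => by
    have : z = 1 := Subtype.ext (Subtype.ext h)
    rw [this, orderOf_one] at hz
    omega
  obtain ⟨i, hi⟩ := QuotientGroup.mk_surjective ((z : P) : Matrix.ProjectiveSpecialLinearGroup (Fin 2) F)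
  have hneg : ∀ a : Matrix.SpecialLinearGroup (Fin 2) F, a = 1 ∨ a = -1 →
      (QuotientGroup.mk a : Matrix.ProjectiveSpecialLinearGroup (Fin 2) F) = 1 := fun a ha =>
    (QuotientGroup.eq_one_iff a).2 ((SL2Trace.mem_center_iff_eq a).2 ha)
  have hii : i * i = -1 := by
    have h : (QuotientGroup.mk (i * i) : Matrix.ProjectiveSpecialLinearGroup (Fin 2) F) =
        QuotientGroup.mk 1 := by
      rw [QuotientGroup.mk_mul, hi]
      exact congrArg Subtype.val hz2
    rcases Inv53.psl2_mk_eq_iff.1 h with e | e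
    · exact absurd (hi ▸ hneg i (eq_of_sq_eq_one h2 e.symm)) hz1
    · rw [← neg_eq_iff_eq_neg.2 e]
  -- an element with nontrivial square lifts into the centraliser of `i`
  have key : ∀ g ∈ P, g * g ≠ 1 → ∃ a, QuotientGroup.mk a = g ∧ a * i = i * a := by
    intro g hg hg2
    obtain ⟨a, ha⟩ := QuotientGroup.mk_surjective g
    refine ⟨a, ha, ?_⟩
    have h : (QuotientGroup.mk (a * i) : Matrix.ProjectiveSpecialLinearGroup (Fin 2) F) =
        QuotientGroup.mk (i * a) := by
      rw [QuotientGroup.mk_mul, QuotientGroup.mk_mul, ha, hi]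
      exact congrArg Subtype.val (Subgroup.mem_center_iff.1 z.2 ⟨g, hg⟩)
    rcases Inv53.psl2_mk_eq_iff.1 h with e | e
    · exact e.symm
    · exfalso
      apply hg2
      rw [← ha, ← QuotientGroup.mk_mul,
        sq_of_anticomm h2 hii (show a * i = -(i * a) by rw [e, neg_neg])]
      exact hneg _ (Or.inr rfl)
  obtain ⟨a, ha, hai⟩ := key x hx hx2
  obtain ⟨b, hb, hbi⟩ := key y hy hy2
  rw [← ha, ← hb, ← QuotientGroup.mk_mul, ← QuotientGroup.mk_mul, comm_of_comm h2 hii hai hbi]

/-- No section `SL(2, p)`. -/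
theorem not_hasSL2Section {Q : Type*} [Group Q] [Finite Q] (hQ : SquareComm Q) {p : ℕ}
    [Fact p.Prime] (hp : p ≠ 2) (H : Subgroup Q) : ¬ PLocal.HasSL2Section p H := by
  rintro ⟨K, -, θ, hθ⟩
  obtain ⟨i, j, hi, hj, hji, hnc⟩ := PLocal.exists_sl2_quaternion_pair (p := p) hp
  haveI : Fact (Nat.Prime 2) := ⟨Nat.prime_two⟩
  have h2 : (2 : ZMod p) ≠ 0 := by
    intro h
    rw [show (2 : ZMod p) = ((2 : ℕ) : ZMod p) by norm_num, ZMod.natCast_eq_zero_iff] at h
    exact hp ((Nat.prime_dvd_prime_iff_eq Fact.out Nat.prime_two).1 h)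
  have hsq : ∀ g : Matrix.SpecialLinearGroup (Fin 2) (ZMod p), g * g = 1 → ∀ k, Commute g k := by
    intro g hg k
    rcases eq_of_sq_eq_one h2 hg with rfl | rfl
    · exact Commute.one_left k
    · show -1 * k = k * -1
      rw [neg_one_mul, mul_neg, mul_one]
  have h4 : ∀ {g : Matrix.SpecialLinearGroup (Fin 2) (ZMod p)}, g ^ 4 = 1 →
      IsPGroup 2 (Subgroup.zpowers g) := fun {g} hg =>
    IsPGroup.of_card_dvd_pow (n := 2)
      (Nat.card_zpowers g ▸ orderOf_dvd_of_pow_eq_one (by simpa using hg))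
  have hQ2 : IsPGroup 2 ↥(Subgroup.zpowers j ⊔ Subgroup.zpowers i) := by
    refine IsPGroup.to_sup_of_normal_right' (h4 hj) (h4 hi) (Subgroup.zpowers_le.mpr ?_)
    rw [Subgroup.mem_normalizer_iff_map_conj_eq]
    show (Subgroup.zpowers i).map (MulAut.conj j).toMonoidHom = Subgroup.zpowers i
    rw [MonoidHom.map_zpowers]
    show Subgroup.zpowers (j * i * j⁻¹) = Subgroup.zpowers i
    rw [hji, Subgroup.zpowers_inv]
  obtain ⟨P, hP, hPQ⟩ := QdFree.exists_pGroup_map_eq θ hθ _ hQ2
  obtain ⟨a, ha, rfl⟩ : i ∈ P.map θ :=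
    hPQ ▸ Subgroup.mem_sup_right (Subgroup.mem_zpowers i)
  obtain ⟨b, hb, rfl⟩ : j ∈ P.map θ :=
    hPQ ▸ Subgroup.mem_sup_left (Subgroup.mem_zpowers j)
  refine hnc ((show Commute a b from Subtype.ext ?_).map θ)
  refine hQ (P.map K.subtype) (hP.map _) _ ⟨a, ha, rfl⟩ _ ⟨b, hb, rfl⟩ (fun h => ?_) (fun h => ?_)
  · refine hnc (hsq _ ?_ _)
    rw [← map_mul, show a * a = 1 from Subtype.ext h, map_one]
  · refine hnc (hsq _ ?_ _).symm
    rw [← map_mul, show b * b = 1 from Subtype.ext h, map_one]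

end CfsgLib.ReeQuad
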